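import Mathlib
import Cfsg.Agent.Jordan.Nilpotent

/-!
# Linear algebra for the Hall–Higman theorem B

The centralizer of a nilpotent endomorphism with `N ^ r = 0` has dimension at least `d ^ 2 / r`, and
in characteristic `p` the power `(T - 1) ^ (p ^ j - 1)` is the norm of `T`.
-/

set_option autoImplicit false

open Module

namespace CfsgLib.HallHigmanB

variable {k : Type*} [Field k] {V : Type*} [AddCommGroup V] [Module k V]

/-- The centralizer of an endomorphism, as a submodule. -/
def commutant (N : Module.End k V) : Submodule k (Module.End k V) :=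
  LinearMap.ker (LinearMap.mulLeft k N - LinearMap.mulRight k N)

theorem mem_commutant {N X : Module.End k V} : X ∈ commutant N ↔ N * X = X * N := by
  simp [commutant, LinearMap.mem_ker, sub_eq_zero]

/-- `d ^ 2 ≤ r * dim C(N)` when `N ^ r = 0`. -/
theorem sq_finrank_le_mul_finrank_commutant [FiniteDimensional k V] (N : Module.End k V) {r : ℕ}
    (hN : N ^ r = 0) : finrank k V ^ 2 ≤ r * finrank k (commutant N) := by
  classical
  obtain ⟨ι, hι, d, b, hd, hb⟩ := CfsgLib.Jordan.exists_chainBasis N ⟨r, hN⟩
  have hdr : ∀ a, d a ≤ r := by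
    intro a
    by_contra hlt
    have h := hb.pow_apply r a ⟨0, by have := hd a; omega⟩
    rw [hN, dif_pos (by simp only; omega)] at h
    exact b.ne_zero _ h.symm
  -- the elementary maps between chains
  let sh : ι → ι → ℕ := fun a c => d c - d a
  let J := (a : ι) × (c : ι) × Fin (min (d a) (d c))
  let E : J → Module.End k V := fun t => b.constr k fun s =>
    if hs : s.1 = t.1 ∧ (t.2.2 : ℕ) + sh t.1 t.2.1 + s.2 < d t.2.1 then
      b ⟨t.2.1, ⟨(t.2.2 : ℕ) + sh t.1 t.2.1 + s.2, hs.2⟩⟩ else 0
  have hE : ∀ t, E t ∈ commutant N := by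
    intro t
    rw [mem_commutant]
    refine b.ext fun ⟨a, i⟩ => ?_
    simp only [Module.End.mul_apply, E, Basis.constr_basis]
    by_cases ha : a = t.1
    swap
    · rw [dif_neg (fun h => ha h.1), map_zero]
      rcases Nat.lt_or_ge ((i : ℕ) + 1) (d a) with hi | hi
      · rw [hb.step a i hi, Basis.constr_basis, dif_neg (fun h => ha h.1)]
      · rw [hb.last a i (by omega), map_zero]
    subst ha
    rcases Nat.lt_or_ge ((i : ℕ) + 1) (d t.1) with hi | hi
    · rw [hb.step _ i hi, Basis.constr_basis]
      by_cases h1 : (t.2.2 : ℕ) + sh t.1 t.2.1 + i < d t.2.1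
      · rw [dif_pos ⟨rfl, h1⟩]
        by_cases h2 : (t.2.2 : ℕ) + sh t.1 t.2.1 + i + 1 < d t.2.1
        · rw [hb.step _ _ h2, dif_pos ⟨rfl, by simp only; omega⟩]
          simp only [Nat.add_assoc]
        · rw [hb.last _ _ (by simp only; omega), dif_neg (fun h => h2 (by have := h.2; simp only at this; omega))]
      · rw [dif_neg (fun h => h1 h.2), dif_neg (fun h => h1 (by have := h.2; simp only at this; omega)),
          map_zero]
    · rw [hb.last _ i (by omega), map_zero]
      by_cases h1 : (t.2.2 : ℕ) + sh t.1 t.2.1 + i < d t.2.1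
      · rw [dif_pos ⟨rfl, h1⟩, hb.last]
        have := i.2
        simp only [sh] at h1 ⊢
        omega
      · rw [dif_neg (fun h => h1 h.2), map_zero]
  have hindep : LinearIndependent k (fun t => (⟨E t, hE t⟩ : commutant N)) := by
    rw [Fintype.linearIndependent_iff]
    intro g hg t
    obtain ⟨a, c, i⟩ := t
    have hapos : 0 < d a := hd a
    have h1 := congrArg (fun X : commutant N => b.repr ((X : Module.End k V) (b ⟨a, ⟨0, hapos⟩⟩))) hg
    simp only [Submodule.coe_sum, Submodule.coe_smul, LinearMap.sum_apply, LinearMap.smul_apply,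
      map_sum, map_smul, Submodule.coe_zero, LinearMap.zero_apply, map_zero] at h1
    have hlt : (i : ℕ) + sh a c < d c := by
      have := i.2
      simp only [sh]
      omega
    have h2 := DFunLike.congr_fun h1 ⟨c, ⟨(i : ℕ) + sh a c, hlt⟩⟩
    rw [Finsupp.finsetSum_apply] at h2
    rw [Finset.sum_eq_single_of_mem (⟨a, c, i⟩ : J) (Finset.mem_univ _)] at h2
    · simp only [E, Basis.constr_basis] at h2
      rw [dif_pos ⟨trivial, by simpa using hlt⟩] at h2
      simpa using h2
    · rintro ⟨a', c', i'⟩ - hne
      simp only [E, Basis.constr_basis, Finsupp.smul_apply, smul_eq_zero]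
      refine Or.inr ?_
      split_ifs with h3
      · rw [Basis.repr_self, Finsupp.single_apply, if_neg]
        intro h4
        obtain ⟨h3a, h3b⟩ := h3
        subst h3a
        simp only [Sigma.mk.injEq] at h4
        obtain ⟨rfl, h4⟩ := h4
        simp only [heq_eq_eq, Fin.mk.injEq, add_zero, Nat.add_right_cancel_iff] at h4
        exact hne (by rw [Fin.ext h4])
      · simp
  have hcard := hindep.fintype_card_le_finrank
  have hV : finrank k V = ∑ a, d a := by
    rw [Module.finrank_eq_card_basis b]
    simp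
  calc finrank k V ^ 2 = ∑ a, ∑ c, d a * d c := by rw [hV, sq, Finset.sum_mul_sum]
    _ ≤ ∑ a, ∑ c, r * min (d a) (d c) := by
        refine Finset.sum_le_sum fun a _ => Finset.sum_le_sum fun c _ => ?_
        rcases le_total (d a) (d c) with h | h
        · rw [min_eq_left h, mul_comm r]
          exact Nat.mul_le_mul_left _ (hdr c)
        · rw [min_eq_right h]
          exact Nat.mul_le_mul_right _ (hdr a)
    _ = r * Fintype.card J := by simp [J, Finset.mul_sum]
    _ ≤ _ := Nat.mul_le_mul_left _ hcard

/-- Geometric sums are powers of `T - 1` in characteristic `p`. -/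
theorem sub_one_pow_sub_one {p : ℕ} [hp : Fact p.Prime] [CharP k p] (T : Module.End k V) (j : ℕ) :
    (T - 1) ^ (p ^ j - 1) = ∑ i ∈ Finset.range (p ^ j), T ^ i := by
  open Polynomial in
  have hX : ((X : k[X]) - 1) ^ (p ^ j - 1) = ∑ i ∈ Finset.range (p ^ j), X ^ i := by
    have h0 : (X : k[X]) - 1 ≠ 0 := by
      rw [← C_1]
      exact X_sub_C_ne_zero 1
    refine mul_right_cancel₀ h0 ?_
    rw [geom_sum_mul, ← pow_succ, Nat.sub_add_cancel (Nat.one_le_pow _ _ hp.out.pos),
      sub_pow_char_pow, one_pow]
  simpa using congrArg (Polynomial.aeval T) hX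

theorem sub_one_pow_char_pow {p : ℕ} [hp : Fact p.Prime] [CharP k p] (T : Module.End k V) (j : ℕ) :
    (T - 1) ^ (p ^ j) = T ^ (p ^ j) - 1 := by
  open Polynomial in
  have hX : ((X : k[X]) - 1) ^ (p ^ j) = X ^ (p ^ j) - 1 := by
    rw [sub_pow_char_pow, one_pow]
  simpa using congrArg (Polynomial.aeval T) hX

end CfsgLib.HallHigmanB
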