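import Mathlib
import Cfsg.Agent.HallHigmanB.Nilpotent

/-!
# The critical case of the Hall–Higman theorem B

A group `S` of class two with faithful irreducible `L : S →* End V` in characteristic `p`, prime to
`|S|`, and an operator `T` of order dividing `P = p ^ n` inducing an automorphism of `S` that is
regular on `S / Z(S)`: then `(T - 1) ^ r = 0` forces `P ≤ r`, or `P = d + 1` and `d ≤ r` for
`d ^ 2 = |S : Z(S)|`.
-/

set_option autoImplicit false

open Module
open scoped commutatorElement

namespace CfsgLib.HallHigmanB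

universe u v w

variable {k : Type w} [Field k] {V : Type v} [AddCommGroup V] [Module k V]
  {S : Type u} [Group S]

/-- Endomorphisms commuting with an irreducible set of operators are scalars. -/
theorem exists_scalar [IsAlgClosed k] [FiniteDimensional k V] [Nontrivial V] (L : S →* Module.End k V)
    (hsimple : ∀ U : Submodule k V, (∀ s, U.map (L s) ≤ U) → U = ⊥ ∨ U = ⊤)
    (X : Module.End k V) (hX : ∀ s, L s * X = X * L s) : ∃ a : k, X = a • 1 := by
  obtain ⟨a, ha⟩ := Module.End.exists_eigenvalue X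
  refine ⟨a, ?_⟩
  have hinv : ∀ s, (Module.End.eigenspace X a).map (L s) ≤ Module.End.eigenspace X a := by
    rintro s _ ⟨x, hx, rfl⟩
    rw [SetLike.mem_coe, Module.End.mem_eigenspace_iff] at hx
    rw [Module.End.mem_eigenspace_iff, ← Module.End.mul_apply, ← hX, Module.End.mul_apply, hx, map_smul]
  rcases hsimple _ hinv with h | h
  · exact absurd h ha
  · refine LinearMap.ext fun x => ?_
    have h1 : x ∈ Module.End.eigenspace X a := h ▸ Submodule.mem_top
    rw [Module.End.mem_eigenspace_iff] at h1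
    simpa using h1

theorem apply_mul_apply_inv (L : S →* Module.End k V) (s : S) : L s * L s⁻¹ = 1 := by
  rw [← map_mul, mul_inv_cancel, map_one]

theorem apply_inv_mul_apply (L : S →* Module.End k V) (s : S) : L s⁻¹ * L s = 1 := by
  rw [← map_mul, inv_mul_cancel, map_one]

/-- Units sum to zero along a nontrivial character. -/
theorem sum_char_eq_zero {X : Type*} [Group X] [Fintype X] {g : X →* kˣ} (h : g ≠ 1) :
    ∑ x : X, (g x : k) = 0 := by
  classical
  exact sum_hom_units_eq_zero ((Units.coeHom k).comp g) fun h' =>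
    h (MonoidHom.ext fun x => Units.ext (DFunLike.congr_fun h' x))

section critical

variable [IsAlgClosed k] [FiniteDimensional k V] [Nontrivial V] [Finite S]

theorem critical {p : ℕ} [hp : Fact p.Prime] [CharP k p] (hSk : (Nat.card S : k) ≠ 0)
    (L : S →* Module.End k V) (hinj : Function.Injective L)
    (hsimple : ∀ U : Submodule k V, (∀ s, U.map (L s) ≤ U) → U = ⊥ ∨ U = ⊤)
    (hcomm : ∀ s t : S, ⁅s, t⁆ ∈ Subgroup.center S) (hnc : Subgroup.center S ≠ ⊤)
    (σ : MulAut S) (n : ℕ) (hσ : σ ^ (p ^ n) = 1) (T : Module.End k V) (hT : T ^ (p ^ n) = 1)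
    (hTL : ∀ s, T * L s = L (σ s) * T)
    (hreg : ∀ i, 0 < i → i < p ^ n → ∀ s : S, s⁻¹ * (σ ^ i) s ∈ Subgroup.center S →
      s ∈ Subgroup.center S)
    {r : ℕ} (hr : (T - 1) ^ r = 0) :
    p ^ n ≤ r ∨ ∃ d, p ^ n = d + 1 ∧ d ≤ r ∧ 1 < d ∧ Nat.card (S ⧸ Subgroup.center S) = d ^ 2 := by
  classical
  letI : Fintype S := Fintype.ofFinite S
  set Z := Subgroup.center S with hZ
  letI : Fintype (S ⧸ Z) := Fintype.ofFinite _
  set P := p ^ n with hP
  have hP0 : 0 < P := pow_pos hp.out.pos n
  have hcen : ∀ z ∈ Z, ∀ t : S, t * z = z * t := fun z hz t => Subgroup.mem_center_iff.1 hz t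
  -- the centre acts by scalars
  have hsc : ∀ z : Z, ∃ a : kˣ, L (z : S) = (a : k) • 1 := by
    intro z
    obtain ⟨a, ha⟩ := exists_scalar L hsimple (L z) fun s => by
      rw [← map_mul, ← map_mul, hcen z z.2 s]
    have ha0 : a ≠ 0 := by
      intro h0
      rw [h0, zero_smul] at ha
      have h1 := apply_mul_apply_inv L (z : S)
      rw [ha, zero_mul] at h1
      exact zero_ne_one h1
    exact ⟨Units.mk0 a ha0, ha⟩
  choose χ₀ hχ₀ using hsc
  have hsmul_inj : ∀ a b : k, a • (1 : Module.End k V) = b • 1 → a = b := fun a b h => by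
    obtain ⟨x, hx⟩ := exists_ne (0 : V)
    exact smul_left_injective k hx (by simpa using LinearMap.congr_fun h x)
  let χ : Z →* kˣ := MonoidHom.mk' χ₀ fun a b => Units.ext (hsmul_inj _ _ (by
    rw [← hχ₀, Subgroup.coe_mul, map_mul, hχ₀, hχ₀, smul_mul_assoc, one_mul, smul_smul, Units.val_mul]))
  have hχ : ∀ z : Z, L (z : S) = (χ z : k) • 1 := hχ₀
  -- the pairing
  let β : S → S →* kˣ := fun v => MonoidHom.mk' (fun t => χ ⟨⁅t, v⁆, hcomm t v⟩) fun t t' => by
    rw [← map_mul]
    refine congrArg χ (Subtype.ext ?_)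
    show ⁅t * t', v⁆ = ⁅t, v⁆ * ⁅t', v⁆
    calc ⁅t * t', v⁆ = t * ⁅t', v⁆ * t⁻¹ * ⁅t, v⁆ := by simp only [commutatorElement_def]; group
      _ = _ := by rw [hcen _ (hcomm t' v) t, mul_inv_cancel_right, hcen _ (hcomm t v) ⁅t', v⁆]
  have hLL : ∀ t v, L t * L v * L t⁻¹ = (β v t : k) • L v := fun t v => by
    rw [← map_mul, ← map_mul, show t * v * t⁻¹ = ⁅t, v⁆ * v by simp [commutatorElement_def, mul_assoc],
      map_mul, hχ ⟨⁅t, v⁆, hcomm t v⟩, smul_mul_assoc, one_mul]
    rfl
  have hβsymm : ∀ t v, β v t = (β t v)⁻¹ := fun t v => by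
    show χ _ = (χ _)⁻¹
    rw [← map_inv]
    exact congrArg χ (Subtype.ext (commutatorElement_inv v t).symm)
  have hnd : ∀ v, β v = 1 → v ∈ Z := by
    intro v hv
    refine Subgroup.mem_center_iff.2 fun t => hinj ?_
    have h := hLL t v
    rw [hv, MonoidHom.one_apply, Units.val_one, one_smul] at h
    rw [map_mul, map_mul]
    calc L t * L v = L t * L v * L t⁻¹ * L t := by rw [mul_assoc (L t * L v), apply_inv_mul_apply, mul_one]
      _ = L v * L t := by rw [h]
  have hβmul : ∀ v v' t, β (v * v') t = β v t * β v' t := fun v v' t => by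
    rw [hβsymm t (v * v'), map_mul, mul_inv, ← hβsymm, ← hβsymm]
  -- basis
  let e : S ⧸ Z → Module.End k V := fun x => L x.out
  have hrep : ∀ s : S, ∃ a : k, L s = a • e (QuotientGroup.mk s) := by
    intro s
    obtain ⟨z, hz⟩ := QuotientGroup.mk_out_eq_mul Z s
    refine ⟨((χ z)⁻¹ : kˣ).val, ?_⟩
    show L s = _ • L _
    rw [hz, map_mul, hχ, mul_smul_comm, mul_one, smul_smul, Units.inv_mul, one_smul]
  have hspan : Submodule.span k (Set.range e) = ⊤ := by
    rw [eq_top_iff]
    intro X _
    let comp : S → Module.End k V := fun v => ∑ t : S, ((β v t)⁻¹ : kˣ).val • (L t * X * L t⁻¹)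
    have hmem : ∀ v, comp v ∈ Submodule.span k (Set.range e) := by
      intro v
      have hcj : ∀ s, L s * comp v * L s⁻¹ = (β v s : k) • comp v := by
        intro s
        show L s * (∑ t : S, _) * L s⁻¹ = _ • ∑ t : S, _
        rw [Finset.mul_sum, Finset.sum_mul, Finset.smul_sum,
          ← Equiv.sum_comp (Equiv.mulLeft s) (fun t => (β v s : k) • ((β v t)⁻¹ : kˣ).val • (L t * X * L t⁻¹))]
        refine Finset.sum_congr rfl fun t _ => ?_
        rw [Equiv.coe_mulLeft, smul_smul, ← Units.val_mul, map_mul (β v), mul_inv, mul_inv_cancel_left,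
          mul_inv_rev, map_mul L, map_mul L, mul_smul_comm, smul_mul_assoc]
        simp only [mul_assoc]
      obtain ⟨a, ha⟩ := exists_scalar L hsimple (L v⁻¹ * comp v) fun s => by
        have hcr : L s * L v⁻¹ * L s⁻¹ = ((β v s)⁻¹ : kˣ).val • L v⁻¹ := by
          rw [hLL]
          congr 2
          rw [hβsymm, map_inv, inv_inv]
          exact (hβsymm s v).trans rfl |>.symm ▸ (inv_inv _).symm
        calc L s * (L v⁻¹ * comp v)
            = (L s * L v⁻¹ * L s⁻¹) * (L s * comp v * L s⁻¹) * L s := by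
              simp only [mul_assoc, apply_inv_mul_apply, mul_one]
              rw [← mul_assoc (L s⁻¹) (L s), apply_inv_mul_apply, one_mul]
          _ = L v⁻¹ * comp v * L s := by
              rw [hcr, hcj, smul_mul_assoc, mul_smul_comm, smul_smul, Units.inv_mul, one_smul]
      have h1 : comp v = a • L v := by
        calc comp v = L v * (L v⁻¹ * comp v) := by rw [← mul_assoc, apply_mul_apply_inv, one_mul]
          _ = a • L v := by rw [ha, mul_smul_comm, mul_one]
      obtain ⟨b, hb⟩ := hrep v
      rw [h1, hb, smul_smul]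
      exact Submodule.smul_mem _ _ (Submodule.subset_span ⟨_, rfl⟩)
    have htot : ∑ v : S, comp v = ((Nat.card S : k) * (Nat.card Z : k)) • X := by
      show ∑ v : S, ∑ t : S, _ = _
      rw [Finset.sum_comm]
      simp only [← Finset.sum_smul]
      have h2 : ∀ t : S, (∑ v : S, ((β v t)⁻¹ : kˣ).val) • (L t * X * L t⁻¹) =
          if t ∈ Z then (Nat.card S : k) • X else 0 := by
        intro t
        split_ifs with ht
        · have h3 : ∀ v, β v t = 1 := fun v => by
            refine (congrArg χ (Subtype.ext ?_)).trans (map_one χ)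
            exact commutatorElement_eq_one_iff_mul_comm.2 (hcen t ht v).symm
          simp only [h3, inv_one, Units.val_one, Finset.sum_const, Finset.card_univ, nsmul_eq_mul, mul_one]
          rw [hχ ⟨t, ht⟩, smul_mul_assoc, one_mul, smul_mul_assoc, ← Nat.card_eq_fintype_card,
            show L t⁻¹ = ((χ ⟨t, ht⟩)⁻¹ : kˣ).val • (1 : Module.End k V) from
              (hχ ⟨t⁻¹, inv_mem ht⟩).trans (by
                rw [show (⟨t⁻¹, inv_mem ht⟩ : Z) = (⟨t, ht⟩ : Z)⁻¹ from rfl, map_inv]),
            mul_smul_comm, mul_one, smul_smul, smul_smul, mul_assoc, Units.mul_inv, mul_one]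
        · let g : S →* kˣ := MonoidHom.mk' (fun v => (β v t)⁻¹) fun v v' => by
            rw [hβmul, mul_inv]
          have hg : g ≠ 1 := fun h => ht (hnd t (MonoidHom.ext fun v => by
            rw [hβsymm]
            exact DFunLike.congr_fun h v))
          rw [show (∑ v : S, ((β v t)⁻¹ : kˣ).val) = 0 from sum_char_eq_zero hg, zero_smul]
      simp only [h2]
      rw [Finset.sum_ite, Finset.sum_const_zero, add_zero, Finset.sum_const, ← Nat.cast_smul_eq_nsmul k,
        smul_smul, mul_comm]
      congr 2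
      rw [Nat.card_eq_fintype_card, Fintype.card_subtype]
    have hne : ((Nat.card S : k) * (Nat.card Z : k)) ≠ 0 := by
      refine mul_ne_zero hSk fun h0 => hSk ?_
      obtain ⟨c, hc⟩ := Subgroup.card_subgroup_dvd_card Z
      rw [hc, Nat.cast_mul, h0, zero_mul]
    have hX : X = ((Nat.card S : k) * (Nat.card Z : k))⁻¹ • ∑ v : S, comp v := by
      rw [htot, inv_smul_smul₀ hne]
    rw [hX]
    exact Submodule.smul_mem _ _ (Submodule.sum_mem _ fun v _ => hmem v)
  have hind : LinearIndependent k e := by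
    rw [Fintype.linearIndependent_iff]
    intro a ha x
    have h1 : ∑ t : S, ((β x.out t)⁻¹ : kˣ).val • (L t * (∑ y, a y • e y) * L t⁻¹) = 0 := by
      simp [ha]
    simp only [Finset.mul_sum, Finset.sum_mul, mul_smul_comm, smul_mul_assoc, Finset.smul_sum, e, hLL,
      smul_smul] at h1
    rw [Finset.sum_comm] at h1
    simp only [← Finset.sum_smul] at h1
    rw [Finset.sum_eq_single_of_mem x (Finset.mem_univ x)] at h1
    · have h2 : (∑ t : S, ((β x.out t)⁻¹ : kˣ).val * (a x * (β x.out t : k))) = (Nat.card S : k) * a x := by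
        have h3 : ∀ t : S, ((β x.out t)⁻¹ : kˣ).val * (a x * (β x.out t : k)) = a x := fun t => by
          rw [mul_left_comm, Units.inv_mul, mul_one]
        simp only [h3, Finset.sum_const, Finset.card_univ, nsmul_eq_mul, Nat.card_eq_fintype_card]
      rw [h2, smul_eq_zero] at h1
      rcases h1 with h1 | h1
      · exact (mul_eq_zero.1 h1).resolve_left hSk
      · exact absurd (show (0 : Module.End k V) = 1 by simpa [h1] using apply_inv_mul_apply L x.out) zero_ne_one
    · intro y _ hy
      let g : S →* kˣ := MonoidHom.mk' (fun t => (β x.out t)⁻¹ * β y.out t) fun t t' => by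
        rw [map_mul, map_mul, mul_inv, mul_mul_mul_comm]
      have hg : g ≠ 1 := by
        intro h
        refine hy ?_
        have h4 : β (x.out⁻¹ * y.out) = 1 := MonoidHom.ext fun t => by
          rw [hβmul, hβsymm t x.out⁻¹, map_inv, inv_inv]
          have h5 : (β x.out t)⁻¹ * β y.out t = 1 := DFunLike.congr_fun h t
          rw [hβsymm t x.out, inv_inv] at h5
          exact h5
        rw [← QuotientGroup.out_eq' x, ← QuotientGroup.out_eq' y]
        exact (QuotientGroup.eq.2 (hnd _ h4)).symm
      have h5 : (∑ t : S, ((β x.out t)⁻¹ : kˣ).val * (a y * (β y.out t : k))) = 0 := by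
        have h6 : ∀ t : S, ((β x.out t)⁻¹ : kˣ).val * (a y * (β y.out t : k)) = a y * (g t : k) := fun t => by
          show _ = a y * (((β x.out t)⁻¹ * β y.out t : kˣ) : k)
          rw [Units.val_mul]
          ring
        simp only [h6, ← Finset.mul_sum, sum_char_eq_zero hg, mul_zero]
      rw [h5, zero_smul]
  let b : Basis (S ⧸ Z) k (Module.End k V) := Basis.mk hind hspan.ge
  set d := finrank k V with hd
  have hd2 : Nat.card (S ⧸ Z) = d ^ 2 := by
    rw [Nat.card_eq_fintype_card, ← Module.finrank_eq_card_basis b, Module.finrank_linearMap, sq]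
  have hd1 : 1 < d := by
    have h1 : 1 < Nat.card (S ⧸ Z) := by
      rw [← Subgroup.index_eq_card]
      exact Subgroup.one_lt_index_of_ne_top hnc
    rw [hd2] at h1
    by_contra hle
    interval_cases d <;> simp at h1
  -- the action of `σ` on the quotient
  have hσZ : ∀ i : ℕ, ∀ z ∈ Z, (σ ^ i) z ∈ Z := by
    intro i z hz
    refine Subgroup.mem_center_iff.2 fun t => ?_
    obtain ⟨t, rfl⟩ := (σ ^ i).surjective t
    rw [← map_mul, ← map_mul, hcen z hz t]
  have hmk : ∀ (i : ℕ) (s s' : S), (QuotientGroup.mk s : S ⧸ Z) = QuotientGroup.mk s' →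
      (QuotientGroup.mk ((σ ^ i) s) : S ⧸ Z) = QuotientGroup.mk ((σ ^ i) s') := by
    intro i s s' h
    rw [QuotientGroup.eq] at h ⊢
    rw [← map_inv, ← map_mul]
    exact hσZ i _ h
  let act : ℕ → S ⧸ Z → S ⧸ Z := fun i x => QuotientGroup.mk ((σ ^ i) x.out)
  have hact : ∀ i l x, act i (act l x) = act (i + l) x := by
    intro i l x
    show QuotientGroup.mk ((σ ^ i) (QuotientGroup.mk ((σ ^ l) x.out) : S ⧸ Z).out) = _
    rw [hmk i _ _ (QuotientGroup.out_eq' _)]
    show _ = QuotientGroup.mk ((σ ^ (i + l)) x.out)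
    rw [pow_add, MulAut.mul_apply]
  have hact0 : ∀ x, act 0 x = x := fun x => by
    show QuotientGroup.mk ((σ ^ 0) x.out) = x
    rw [pow_zero, MulAut.one_apply, QuotientGroup.out_eq']
  have hactP : ∀ x, act P x = x := fun x => by
    show QuotientGroup.mk ((σ ^ P) x.out) = x
    rw [hσ, MulAut.one_apply, QuotientGroup.out_eq']
  -- representatives of the regular orbits
  let ok : Finset (S ⧸ Z) → Prop := fun R => (∀ x ∈ R, x ≠ 1) ∧
    ∀ i < P, ∀ l < P, ∀ x ∈ R, ∀ y ∈ R, act i x = act l y → i = l ∧ x = y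
  obtain ⟨R, hR, hRmax⟩ := Finset.exists_max_image (Finset.univ.filter ok) Finset.card
    ⟨∅, by simp [ok]⟩
  simp only [Finset.mem_filter, Finset.mem_univ, true_and] at hR hRmax
  have hcover : ∀ x : S ⧸ Z, x ≠ 1 → ∃ i, ∃ y ∈ R, act i y = x := by
    intro x hx
    by_contra hcon
    push Not at hcon
    have hxR : x ∉ R := fun h => hcon 0 x h (hact0 x)
    have hxfree : ∀ i < P, ∀ l < P, i < l → act i x ≠ act l x := by
      intro i hi l hl hil heq
      refine hx ?_
      have h1 : ((σ ^ i) x.out)⁻¹ * (σ ^ (l - i)) ((σ ^ i) x.out) ∈ Z := by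
        rw [← MulAut.mul_apply, ← pow_add, Nat.sub_add_cancel hil.le]
        exact QuotientGroup.eq.1 heq
      have h2 := hreg (l - i) (by omega) (by omega) _ h1
      have h3 : x.out ∈ Z := by
        have h4 := hσZ (P - i) _ h2
        rwa [← MulAut.mul_apply, ← pow_add, Nat.sub_add_cancel hi.le, hσ, MulAut.one_apply] at h4
      rw [← QuotientGroup.out_eq' x]
      exact (QuotientGroup.eq_one_iff _).2 h3
    have hnew : ∀ i < P, ∀ l < P, ∀ y ∈ R, act i x ≠ act l y := by
      intro i hi l hl y hy heq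
      refine hcon (P - i + l) y hy ?_
      rw [← hact, ← heq, hact, Nat.sub_add_cancel hi.le, hactP]
    have hins : ok (insert x R) := by
      refine ⟨fun y hy => ?_, ?_⟩
      · rcases Finset.mem_insert.1 hy with rfl | hy
        exacts [hx, hR.1 y hy]
      · intro i hi l hl y hy z hz heq
        rcases Finset.mem_insert.1 hy with hyx | hy <;> rcases Finset.mem_insert.1 hz with hzx | hz
        · rw [hyx, hzx] at heq
          rcases lt_trichotomy i l with h | h | h
          · exact absurd heq (hxfree i hi l hl h)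
          · exact ⟨h, hyx.trans hzx.symm⟩
          · exact absurd heq.symm (hxfree l hl i hi h)
        · exact absurd (hyx ▸ heq) (hnew i hi l hl z hz)
        · exact absurd (hzx ▸ heq).symm (hnew l hl i hi y hy)
        · exact hR.2 i hi l hl y hy z hz heq
    have := hRmax _ hins
    rw [Finset.card_insert_of_notMem hxR] at this
    omega
  have hcount : R.card * P + 1 ≤ d ^ 2 := by
    have hsub : (R ×ˢ Finset.range P).image (fun q => act q.2 q.1) ⊆ Finset.univ.erase (1 : S ⧸ Z) := by
      intro x hx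
      obtain ⟨⟨y, i⟩, hy, rfl⟩ := Finset.mem_image.1 hx
      rw [Finset.mem_product, Finset.mem_range] at hy
      refine Finset.mem_erase.2 ⟨fun h1 => hR.1 y hy.1 ?_, Finset.mem_univ _⟩
      rw [← hactP y, ← Nat.sub_add_cancel hy.2.le, ← hact, show act i y = 1 from h1]
      show QuotientGroup.mk ((σ ^ (P - i)) (1 : S ⧸ Z).out) = 1
      rw [hmk (P - i) _ 1 (by rw [QuotientGroup.out_eq', QuotientGroup.mk_one]), map_one, QuotientGroup.mk_one]
    have h1 := Finset.card_le_card hsub
    rw [Finset.card_image_of_injOn, Finset.card_product, Finset.card_range,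
      Finset.card_erase_of_mem (Finset.mem_univ _), Finset.card_univ, ← Nat.card_eq_fintype_card, hd2] at h1
    · have : 0 < d ^ 2 := pow_pos (by omega) 2
      omega
    · rintro ⟨y, i⟩ hy ⟨z, l⟩ hz heq
      simp only [Finset.coe_product, Set.mem_prod, Finset.mem_coe, Finset.mem_range] at hy hz
      obtain ⟨h1, h2⟩ := hR.2 i hy.2 l hz.2 y hy.1 z hz.1 heq
      exact Prod.ext h2 h1
  -- centralizer
  have hcT : finrank k (commutant T) ≤ R.card + 1 := by
    let ev : commutant T →ₗ[k] (↥(insert (1 : S ⧸ Z) R) → k) :=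
      LinearMap.pi fun y => (b.coord y.1).comp (commutant T).subtype
    have hev : Function.Injective ev := by
      rw [← LinearMap.ker_eq_bot, eq_bot_iff]
      rintro ⟨X, hX⟩ h0
      rw [Submodule.mem_bot]
      refine Subtype.ext (b.repr.injective (Finsupp.ext fun x => ?_))
      rw [mem_commutant] at hX
      -- transport of coordinates
      have hstep : ∀ y, b.repr X y = 0 → b.repr X (act 1 y) = 0 := by
        intro y hy
        choose c hc using hrep
        have hTe : ∀ z, T * e z = c (σ z.out) • (e (act 1 z) * T) := fun z => by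
          rw [show e z = L z.out from rfl, hTL, hc (σ z.out), smul_mul_assoc]
          simp [act]
        have hTinv : T * T ^ (P - 1) = 1 := by rw [← pow_succ', Nat.sub_add_cancel hP0, hT]
        have hXe : X = ∑ z, (b.repr X z * c (σ z.out)) • e (act 1 z) := by
          calc X = T * X * T ^ (P - 1) := by rw [hX, mul_assoc, hTinv, mul_one]
            _ = T * (∑ z, b.repr X z • e z) * T ^ (P - 1) := by
                conv_lhs => rw [← b.sum_repr X]
                simp [b]
            _ = _ := by
                rw [Finset.mul_sum, Finset.sum_mul]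
                refine Finset.sum_congr rfl fun z _ => ?_
                rw [mul_smul_comm, hTe, smul_smul, smul_mul_assoc, mul_assoc, hTinv, mul_one]
        have hbij : Function.Bijective (act 1) := by
          refine Finite.injective_iff_bijective.1 fun z z' hzz => ?_
          rw [← hactP z, ← hactP z', ← Nat.sub_add_cancel hP0, ← hact, ← hact, hzz]
        have h1 := congrArg (fun Y => b.repr Y (act 1 y)) hXe
        simp only [map_sum, map_smul, Finsupp.finsetSum_apply, Finsupp.smul_apply] at h1
        rw [Finset.sum_eq_single_of_mem y (Finset.mem_univ y)] at h1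
        · rw [h1, hy, zero_mul, zero_smul]
        · intro z _ hz
          rw [show e (act 1 z) = b (act 1 z) by simp [b], Basis.repr_self, Finsupp.single_apply,
            if_neg (fun h => hz (hbij.1 h)), smul_zero]
      have hiter : ∀ i y, b.repr X y = 0 → b.repr X (act i y) = 0 := by
        intro i y hy
        induction i with
        | zero => rwa [hact0]
        | succ i ih =>
          rw [Nat.add_comm, ← hact]
          exact hstep _ ih
      have h0' : ∀ y ∈ insert (1 : S ⧸ Z) R, b.repr X y = 0 := fun y hy => by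
        have := congrFun (LinearMap.mem_ker.1 h0) ⟨y, hy⟩
        simpa [ev] using this
      rcases eq_or_ne x 1 with rfl | hx
      · simpa using h0' 1 (Finset.mem_insert_self _ _)
      · obtain ⟨i, y, hy, rfl⟩ := hcover x hx
        simpa using hiter i y (h0' y (Finset.mem_insert_of_mem hy))
    refine (LinearMap.finrank_le_finrank_of_injective hev).trans ?_
    rw [Module.finrank_pi, Fintype.card_coe]
    exact Finset.card_insert_le _ _
  -- conclusion
  have hN : finrank k (commutant (T - 1)) = finrank k (commutant T) := by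
    have : commutant (T - 1) = commutant T := by
      ext X
      simp [mem_commutant, sub_mul, mul_sub]
    rw [this]
  rcases le_or_gt P r with h | h
  · exact Or.inl h
  refine Or.inr ⟨d, ?_⟩
  have key : ∀ r', (T - 1) ^ r' = 0 → d ^ 2 * P ≤ r' * (d ^ 2 + P - 1) := by
    intro r' hr'
    have h1 := sq_finrank_le_mul_finrank_commutant (T - 1) hr'
    rw [hN, ← hd] at h1
    have h2 : finrank k (commutant T) * P ≤ d ^ 2 + P - 1 := by
      have := Nat.mul_le_mul_right P hcT
      rw [add_mul, one_mul] at this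
      omega
    calc d ^ 2 * P ≤ r' * finrank k (commutant T) * P := Nat.mul_le_mul_right _ h1
      _ ≤ _ := by rw [mul_assoc]; exact Nat.mul_le_mul_left _ h2
  have hd' : (T - 1) ^ d = 0 := LinearMap.ker_eq_top.1 <| top_le_iff.1 <|
    (LinearMap.ker_eq_top.2 hr).ge.trans (Module.End.ker_pow_le_ker_pow_finrank _ r)
  have hA := key r hr
  have hB := key d hd'
  have hd2' : d ^ 2 + P - 1 + 1 = d ^ 2 + P := Nat.sub_add_cancel (by omega)
  have hlt : d < P := by
    by_contra hle
    obtain ⟨Q, hQ⟩ : ∃ Q, P = Q + 1 := ⟨P - 1, by omega⟩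
    have h1 : r ≤ Q := by omega
    rw [hQ, show d ^ 2 + (Q + 1) - 1 = d ^ 2 + Q by omega] at hA
    have h2 : d ^ 2 * (Q + 1) ≤ Q * (d ^ 2 + Q) := hA.trans (Nat.mul_le_mul_right _ h1)
    have h3 : (Q + 1) * (Q + 1) ≤ d * d := Nat.mul_le_mul (by omega) (by omega)
    nlinarith
  have hge : P ≤ d + 1 := by
    by_contra hle
    obtain ⟨e, he⟩ : ∃ e, d = e + 1 := ⟨d - 1, by omega⟩
    obtain ⟨f, hf⟩ : ∃ f, P = d + 1 + (f + 1) := ⟨P - (d + 2), by omega⟩
    rw [hf, show d ^ 2 + (d + 1 + (f + 1)) - 1 = d ^ 2 + d + f + 1 by omega, he] at hB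
    have h4 : 0 < e := by omega
    have h5 : (e + 1) * (e + 1 + 1 + (f + 1)) ≤ (e + 1) ^ 2 + (e + 1) + f + 1 :=
      Nat.le_of_mul_le_mul_left (c := e + 1)
        (by calc (e + 1) * ((e + 1) * (e + 1 + 1 + (f + 1))) = (e + 1) ^ 2 * (e + 1 + 1 + (f + 1)) := by ring
              _ ≤ _ := hB) (Nat.succ_pos e)
    nlinarith
  have hPd : P = d + 1 := by omega
  refine ⟨hPd, ?_, hd1, hd2⟩
  rw [hPd, show d ^ 2 + (d + 1) - 1 = d * (d + 1) by ring_nf; omega] at hA
  have h6 : d * (d * (d + 1)) ≤ r * (d * (d + 1)) := by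
    calc d * (d * (d + 1)) = d ^ 2 * (d + 1) := by ring
      _ ≤ _ := hA
  exact Nat.le_of_mul_le_mul_right h6 (Nat.mul_pos (by omega) (by omega))

end critical

end CfsgLib.HallHigmanB
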