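import Mathlib
import Cfsg.Agent.HallHigmanB.Irreducible
import Cfsg.Agent.FpfAut.NormZero
import Cfsg.Agent.PGroup.Frattini

/-!
# The Hall–Higman theorem B

A `q`-group `S` acting in characteristic `p ≠ q`, with an operator `T` inducing an automorphism `σ`,
`σ ^ p ^ n = 1`, such that `σ ^ p ^ (n - 1)` is visible on the image: `(T - 1) ^ r = 0` forces
`p ^ n ≤ r`, except when some `p ^ n₀ - 1` is a power of `q`, and then `S` is not abelian and
`p ^ (n - n₀) * (p ^ n₀ - 1) ≤ r`.
-/

set_option autoImplicit false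

open Module
open scoped commutatorElement

namespace CfsgLib.HallHigmanB

universe u v w

/-- The conclusion of theorem B. -/
def Conclusion (p q n r : ℕ) (S : Type u) [Group S] : Prop :=
  p ^ n ≤ r ∨ ∃ n₀ m : ℕ, 1 ≤ n₀ ∧ n₀ ≤ n ∧ 1 ≤ m ∧ p ^ n₀ - 1 = q ^ m ∧ (∃ a b : S, a * b ≠ b * a) ∧
    p ^ (n - n₀) * (p ^ n₀ - 1) ≤ r

theorem Conclusion.of_hom {p q n r : ℕ} {S S' : Type u} [Group S] [Group S'] (f : S' → S)
    (hf : ∀ a b, f a * f b = f b * f a → a * b = b * a) (h : Conclusion p q n r S') :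
    Conclusion p q n r S := by
  rcases h with h | ⟨n₀, m, h1, h2, h3, h4, ⟨a, b, hab⟩, h5⟩
  · exact Or.inl h
  · exact Or.inr ⟨n₀, m, h1, h2, h3, h4, ⟨f a, f b, fun h => hab (hf a b h)⟩, h5⟩

/-- The restriction of an automorphism to an invariant subgroup. -/
noncomputable def restrictAut {S : Type u} [Group S] [Finite S] (σ : MulAut S) (H : Subgroup S)
    (h : ∀ s ∈ H, σ s ∈ H) : MulAut H :=
  MulEquiv.ofBijective (((σ : S →* S).comp H.subtype).codRestrict H fun s => h s s.2)
    (Finite.injective_iff_bijective.1 fun _ _ hab => Subtype.ext (σ.injective (congrArg Subtype.val hab)))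

theorem restrictAut_pow_coe {S : Type u} [Group S] [Finite S] (σ : MulAut S) (H : Subgroup S)
    (h : ∀ s ∈ H, σ s ∈ H) (i : ℕ) : ∀ s : H, (((restrictAut σ H h ^ i) s : H) : S) = (σ ^ i) s := by
  induction i with
  | zero => simp
  | succ i ih =>
    intro s
    rw [pow_succ', pow_succ', MulAut.mul_apply, MulAut.mul_apply, ← ih]
    rfl

variable {k : Type w} [Field k]

theorem restrict_pow_coe {V : Type v} [AddCommGroup V] [Module k V] (T : Module.End k V) (U : Submodule k V)
    (h : ∀ x ∈ U, T x ∈ U) (i : ℕ) : ∀ x : U, (((T.restrict h ^ i) x : U) : V) = (T ^ i) x := by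
  induction i with
  | zero => simp
  | succ i ih =>
    intro x
    rw [pow_succ', pow_succ', Module.End.mul_apply, Module.End.mul_apply, ← ih]
    rfl

/-- The representation on an invariant subspace. -/
def restrictRep {V : Type v} [AddCommGroup V] [Module k V] {S : Type u} [Group S]
    (L : S →* Module.End k V) (U : Submodule k V) (h : ∀ (s : S), ∀ x ∈ U, L s x ∈ U) :
    S →* Module.End k U where
  toFun s := (L s).restrict (h s)
  map_one' := LinearMap.ext fun x => Subtype.ext (by simp)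
  map_mul' a b := LinearMap.ext fun x => Subtype.ext (by simp)

theorem hallHigmanB_aux [IsAlgClosed k] {p q : ℕ} [hp : Fact p.Prime] [hq : Fact q.Prime] [CharP k p]
    (hpq : p ≠ q) :
    ∀ (N : ℕ) (S : Type u) [Group S] [Finite S] (V : Type v) [AddCommGroup V] [Module k V]
      [FiniteDimensional k V] (σ : MulAut S) (n : ℕ) (L : S →* Module.End k V) (T : Module.End k V) (r : ℕ),
      n + finrank k V + Nat.card S = N → 1 ≤ n → IsPGroup q S → σ ^ (p ^ n) = 1 → T ^ (p ^ n) = 1 →
      (∀ s, T * L s = L (σ s) * T) → (∃ s, L ((σ ^ (p ^ (n - 1))) s) ≠ L s) → (T - 1) ^ r = 0 →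
      Conclusion p q n r S := by
  intro N
  induction N using Nat.strong_induction_on with
  | _ N IH =>
  intro S _ _ V _ _ _ σ n L T r hN hn hS hσ hT hTL hnt hr
  classical
  set P := p ^ n with hP
  have hP0 : 0 < P := pow_pos hp.out.pos n
  set y := σ ^ (p ^ (n - 1)) with hy
  have hqk : (q : k) ≠ 0 := fun h => hpq ((Nat.prime_dvd_prime_iff_eq hp.out hq.out).1
    ((CharP.cast_eq_zero_iff k p q).1 h))
  have hSk : ∀ (H : Type u) [Group H] [Finite H], IsPGroup q H → (Nat.card H : k) ≠ 0 := by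
    intro H _ _ hH
    obtain ⟨a, ha⟩ := IsPGroup.iff_card.1 hH
    rw [ha, Nat.cast_pow]
    exact pow_ne_zero _ hqk
  have hσinv : ∀ s : S, σ ((σ ^ (P - 1)) s) = s := fun s => by
    rw [← MulAut.mul_apply, ← pow_succ', Nat.sub_add_cancel hP0, hσ, MulAut.one_apply]
  have hTinv : T * T ^ (P - 1) = 1 := by rw [← pow_succ', Nat.sub_add_cancel hP0, hT]
  have hyσ : ∀ (i : ℕ) (s : S), (σ ^ i) (y s) = y ((σ ^ i) s) := fun i s => by
    rw [hy, ← MulAut.mul_apply, ← MulAut.mul_apply, ← pow_add, ← pow_add, add_comm]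
  -- (A) the kernel
  let K : Subgroup S :=
    { carrier := {s | L s = 1}
      one_mem' := map_one L
      mul_mem' := fun {a b} (ha : L a = 1) (hb : L b = 1) => show L (a * b) = 1 by rw [map_mul, ha, hb, one_mul]
      inv_mem' := fun {a} (ha : L a = 1) => show L a⁻¹ = 1 by
        have h := apply_inv_mul_apply L a
        rwa [ha, mul_one] at h }
  by_cases hK : K ≠ ⊥
  · haveI : K.Normal := ⟨fun a (ha : L a = 1) g => show L (g * a * g⁻¹) = 1 by
      rw [map_mul, map_mul, ha, mul_one, apply_mul_apply_inv]⟩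
    have hKσ : K.map σ.toMonoidHom = K := by
      refine Subgroup.eq_of_le_of_card_ge ?_ (le_of_eq
        (Subgroup.card_map_of_injective (f := σ.toMonoidHom) σ.injective).symm)
      rintro _ ⟨a, (ha : L a = 1), rfl⟩
      show L (σ a) = 1
      calc L (σ a) = L (σ a) * (T * T ^ (P - 1)) := by rw [hTinv, mul_one]
        _ = T * L a * T ^ (P - 1) := by rw [← mul_assoc, hTL]
        _ = 1 := by rw [ha, mul_one, hTinv]
    let σK : MulAut (S ⧸ K) := QuotientGroup.congr K K σ hKσ
    have hσK : ∀ (i : ℕ) (s : S), (σK ^ i) (s : S ⧸ K) = (((σ ^ i) s : S) : S ⧸ K) := by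
      intro i
      induction i with
      | zero => simp
      | succ i ih =>
        intro s
        rw [pow_succ', pow_succ', MulAut.mul_apply, MulAut.mul_apply, ih]
        rfl
    let LK : S ⧸ K →* Module.End k V := QuotientGroup.lift K L fun a ha => ha
    refine Conclusion.of_hom (fun x : S ⧸ K => x.out) (fun a b h => ?_) (IH _ ?_ (S ⧸ K) V σK n LK T r rfl hn
      (hS.to_quotient K) ?_ hT ?_ ?_ hr)
    · rw [← QuotientGroup.out_eq' a, ← QuotientGroup.out_eq' b, ← QuotientGroup.mk_mul, h, QuotientGroup.mk_mul]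
    · have h2 : Nat.card (S ⧸ K) < Nat.card S := by
        have h1 : 1 < Nat.card K := Finite.one_lt_card_iff_nontrivial.2 (K.nontrivial_iff_ne_bot.2 hK)
        rw [Subgroup.card_eq_card_quotient_mul_card_subgroup K]
        exact lt_mul_of_one_lt_right Nat.card_pos h1
      omega
    · refine MulEquiv.ext fun x => ?_
      obtain ⟨s, rfl⟩ := QuotientGroup.mk_surjective x
      rw [hσK, hσ]
      rfl
    · intro x
      obtain ⟨s, rfl⟩ := QuotientGroup.mk_surjective x
      exact hTL s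
    · obtain ⟨s, hs⟩ := hnt
      refine ⟨s, ?_⟩
      rw [hσK]
      exact hs
  rw [not_not] at hK
  have hinj : Function.Injective L := by
    intro a b hab
    have h1 : a⁻¹ * b ∈ K := show L (a⁻¹ * b) = 1 by rw [map_mul, ← hab, apply_inv_mul_apply]
    rw [hK, Subgroup.mem_bot, inv_mul_eq_one] at h1
    exact h1
  -- (B) invariant subgroups
  have hsub : (∃ S₁ : Subgroup S, S₁ ≠ ⊤ ∧ (∀ s ∈ S₁, σ s ∈ S₁) ∧ ∃ s ∈ S₁, y s ≠ s) →
      Conclusion p q n r S := by
    rintro ⟨S₁, hS₁, hinv, s, hs, hys⟩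
    refine Conclusion.of_hom (fun x : S₁ => (x : S)) (fun a b h => Subtype.ext h) (IH _ ?_ S₁ V
      (restrictAut σ S₁ hinv) n (L.comp S₁.subtype) T r rfl hn (hS.to_subgroup S₁) ?_ hT ?_ ?_ hr)
    · have h1 : Nat.card S₁ < Nat.card S :=
        lt_of_le_of_ne (Subgroup.card_le_card_group S₁) fun h => hS₁ (Subgroup.eq_top_of_card_eq _ h)
      omega
    · refine MulEquiv.ext fun x => Subtype.ext ?_
      rw [restrictAut_pow_coe, hσ]
      rfl
    · exact fun x => hTL x
    · refine ⟨⟨s, hs⟩, fun h => hys (hinj ?_)⟩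
      rw [MonoidHom.comp_apply, MonoidHom.comp_apply, Subgroup.subtype_apply, restrictAut_pow_coe] at h
      exact h
  by_cases hfix : ∃ S₁ : Subgroup S, S₁ ≠ ⊤ ∧ (∀ s ∈ S₁, σ s ∈ S₁) ∧ ∃ s ∈ S₁, y s ≠ s
  · exact hsub hfix
  push Not at hfix
  have hy1 : y ≠ 1 := by
    obtain ⟨s, hs⟩ := hnt
    intro h
    exact hs (by rw [h, MulAut.one_apply])
  haveI : Nontrivial V := by
    by_contra h
    rw [not_nontrivial_iff_subsingleton] at h
    obtain ⟨s, hs⟩ := hnt
    exact hs (Subsingleton.elim _ _)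
  -- (C) invariant subspaces
  by_cases hred : ∃ U : Submodule k V, U ≠ ⊥ ∧ U ≠ ⊤ ∧ U.map T ≤ U ∧ ∀ s, U.map (L s) ≤ U
  · obtain ⟨U, hU0, hU1, hUT, hUL⟩ := hred
    have hUT' : ∀ x ∈ U, T x ∈ U := fun x hx => hUT ⟨x, hx, rfl⟩
    have hUL' : ∀ (s : S), ∀ x ∈ U, L s x ∈ U := fun s x hx => hUL s ⟨x, hx, rfl⟩
    by_cases hon : ∀ s, ∀ x ∈ U, L (y s) x = L s x
    swap
    · push Not at hon
      obtain ⟨s, x, hx, hne⟩ := hon
      refine IH _ ?_ S U σ n (restrictRep L U hUL') (T.restrict hUT') r rfl hn hS hσ ?_ ?_ ?_ ?_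
      · have := Submodule.finrank_lt hU1
        omega
      · refine LinearMap.ext fun x => Subtype.ext ?_
        rw [restrict_pow_coe, hT]
        rfl
      · exact fun s => LinearMap.ext fun x => Subtype.ext (LinearMap.congr_fun (hTL s) x)
      · exact ⟨s, fun h => hne (congrArg Subtype.val (LinearMap.congr_fun h ⟨x, hx⟩))⟩
      · refine LinearMap.ext fun x => Subtype.ext ?_
        have e : T.restrict hUT' - 1 = (T - 1).restrict (fun x hx => U.sub_mem (hUT' x hx) hx) :=
          LinearMap.ext fun x => Subtype.ext rfl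
        rw [e, restrict_pow_coe, hr]
        rfl
    let LQ : S →* Module.End k (V ⧸ U) :=
      { toFun := fun s => U.mapQ U (L s) fun x hx => hUL' s x hx
        map_one' := Submodule.linearMap_qext _ (LinearMap.ext fun x => by simp)
        map_mul' := fun a b => Submodule.linearMap_qext _ (LinearMap.ext fun x => by simp) }
    let TQ : Module.End k (V ⧸ U) := U.mapQ U T fun x hx => hUT' x hx
    have hTQ : ∀ (i : ℕ) (x : V), (TQ ^ i) (Submodule.Quotient.mk x) = Submodule.Quotient.mk ((T ^ i) x) := by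
      intro i
      induction i with
      | zero => simp
      | succ i ih =>
        intro x
        rw [pow_succ', pow_succ', Module.End.mul_apply, Module.End.mul_apply, ih]
        rfl
    refine IH _ ?_ S (V ⧸ U) σ n LQ TQ r rfl hn hS hσ ?_ ?_ ?_ ?_
    · have h1 := U.finrank_quotient_add_finrank
      haveI : Nontrivial U := Submodule.nontrivial_iff_ne_bot.2 hU0
      have h2 : 0 < finrank k U := Module.finrank_pos
      omega
    · refine Submodule.linearMap_qext _ (LinearMap.ext fun x => ?_)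
      show (TQ ^ (p ^ n)) (Submodule.Quotient.mk x) = Submodule.Quotient.mk x
      rw [hTQ, hT]
      rfl
    · exact fun s => Submodule.linearMap_qext _ (LinearMap.ext fun x =>
        congrArg Submodule.Quotient.mk (LinearMap.congr_fun (hTL s) x))
    · by_contra hall
      push Not at hall
      obtain ⟨s, hs⟩ := hnt
      -- `g` stabilises `0 < U < V`
      set g := y s * s⁻¹ with hg
      have hgU : ∀ x ∈ U, L g x = x := fun x hx => by
        rw [hg, map_mul, Module.End.mul_apply, hon s _ (hUL' _ x hx), ← Module.End.mul_apply,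
          apply_mul_apply_inv, Module.End.one_apply]
      have hgQ : ∀ x, L g x - x ∈ U := fun x => by
        rw [← Submodule.Quotient.eq]
        have h := LinearMap.congr_fun (hall s) (Submodule.Quotient.mk (L s⁻¹ x))
        change Submodule.Quotient.mk (L (y s) (L s⁻¹ x)) = Submodule.Quotient.mk (L s (L s⁻¹ x)) at h
        rw [← Module.End.mul_apply, ← Module.End.mul_apply, ← map_mul, apply_mul_apply_inv] at h
        exact h
      set D := L g - 1 with hD
      have hD2 : D * D = 0 := LinearMap.ext fun x => by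
        show L g (L g x - x) - (L g x - x) = 0
        rw [hgU _ (hgQ x), sub_self]
      have hpow : ∀ i : ℕ, L g ^ i = 1 + (i : k) • D := by
        intro i
        induction i with
        | zero => simp
        | succ i ih =>
          rw [pow_succ, ih, show L g = 1 + D by simp [hD], add_mul, one_mul, mul_add, mul_one, smul_mul_assoc,
            hD2, smul_zero, add_zero, Nat.cast_succ, add_smul, one_smul]
          abel
      obtain ⟨a, ha⟩ := hS g
      have h1 := hpow (q ^ a)
      rw [← map_pow, ha, map_one, left_eq_add, smul_eq_zero] at h1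
      have h2 : L g = 1 := sub_eq_zero.1 (h1.resolve_left (by rw [Nat.cast_pow]; exact pow_ne_zero _ hqk))
      refine hs ?_
      calc L (y s) = L (g * s) := by rw [hg, inv_mul_cancel_right]
        _ = L s := by rw [map_mul, h2, one_mul]
    · refine Submodule.linearMap_qext _ (LinearMap.ext fun x => ?_)
      have e : TQ - 1 = U.mapQ U (T - 1) (fun x hx => by simpa using U.sub_mem (hUT' x hx) hx) :=
        Submodule.linearMap_qext _ (LinearMap.ext fun x => by simp [TQ])
      show ((TQ - 1) ^ r) (Submodule.Quotient.mk x) = 0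
      rw [e, ← Submodule.mapQ_pow, Submodule.mapQ_apply, hr, LinearMap.zero_apply, Submodule.Quotient.mk_zero]
  push Not at hred
  have hsimp : ∀ U : Submodule k V, U.map T ≤ U → (∀ s, U.map (L s) ≤ U) → U = ⊥ ∨ U = ⊤ := by
    intro U h1 h2
    by_contra h
    push Not at h
    obtain ⟨s, hs⟩ := hred U h.1 h.2 h1
    exact hs (h2 s)
  set Cn := Subgroup.center S with hCn
  have hCσ : ∀ (i : ℕ), ∀ z ∈ Cn, (σ ^ i) z ∈ Cn := by
    intro i z hz
    refine Subgroup.mem_center_iff.2 fun t => ?_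
    obtain ⟨t, rfl⟩ := (σ ^ i).surjective t
    rw [← map_mul, ← map_mul, Subgroup.mem_center_iff.1 hz t]
  -- (D) the weights of the centre
  by_cases hscal : ∀ z ∈ Cn, ∃ a : k, L z = a • 1
  swap
  · letI : CommGroup Cn := { (inferInstance : Group Cn) with
      mul_comm := fun a b => Subtype.ext (Subgroup.mem_center_iff.1 b.2 a) }
    letI : Fintype Cn := Fintype.ofFinite Cn
    obtain ⟨χ, w₀, hw₀, hχw₀⟩ : ∃ (χ : Cn →* kˣ) (w : V), w ≠ 0 ∧ ∀ z : Cn, L (z : S) w = (χ z : k) • w := by
      by_contra hcon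
      push Not at hcon
      have h1 := CfsgLib.FpfAut.eq_zero_of_eigen (hSk Cn (hS.to_subgroup Cn)) (L.comp Cn.subtype)
        (1 : Module.End k V) fun χ w hw => by
          by_contra h
          obtain ⟨z, hz⟩ := hcon χ w h
          exact hz (hw z)
      exact one_ne_zero h1
    let W : Submodule k V :=
      { carrier := {w | ∀ z : Cn, L (z : S) w = (χ z : k) • w}
        add_mem' := fun {a b} ha hb z => by rw [map_add, ha z, hb z, smul_add]
        zero_mem' := fun z => by rw [map_zero, smul_zero]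
        smul_mem' := fun c w hw z => by rw [map_smul, hw z, smul_comm] }
    have hWL : ∀ (s : S), ∀ x ∈ W, L s x ∈ W := by
      intro s x hx z
      rw [← Module.End.mul_apply, ← map_mul, ← Subgroup.mem_center_iff.1 z.2 s, map_mul, Module.End.mul_apply,
        hx z, map_smul]
    let Fx : ℕ → Prop := fun i => ∀ z : Cn, χ ⟨(σ ^ i) z, hCσ i z z.2⟩ = χ z
    have hFadd : ∀ a b, Fx a → (Fx (a + b) ↔ Fx b) := by
      intro a b ha
      have e : ∀ z : Cn, χ ⟨(σ ^ (a + b)) z, hCσ _ z z.2⟩ = χ ⟨(σ ^ b) z, hCσ b z z.2⟩ := fun z => by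
        rw [← ha ⟨(σ ^ b) z, hCσ b z z.2⟩]
        exact congrArg χ (Subtype.ext (by simp [pow_add]))
      exact ⟨fun h z => (e z).symm.trans (h z), fun h z => (e z).trans (h z)⟩
    have hFP : Fx P := fun z => congrArg χ (Subtype.ext (by simp [hσ]))
    have hF0 : Fx 0 := fun z => congrArg χ (Subtype.ext (by simp))
    have hex : ∃ i, 0 < i ∧ Fx i := ⟨P, hP0, hFP⟩
    set i₀ := Nat.find hex with hi₀def
    obtain ⟨hi₀, hFi₀⟩ := Nat.find_spec hex
    have hmul : ∀ c, Fx (i₀ * c) := by
      intro c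
      induction c with
      | zero => simpa using hF0
      | succ c ih => rw [Nat.mul_succ, add_comm]; exact (hFadd _ _ hFi₀).2 ih
    have hdvd : ∀ i, Fx i → i₀ ∣ i := by
      intro i hi
      rw [Nat.dvd_iff_mod_eq_zero]
      by_contra h
      refine Nat.find_min hex (Nat.mod_lt i hi₀) ⟨Nat.pos_of_ne_zero h, ?_⟩
      rw [← hFadd _ _ (hmul (i / i₀)), add_comm, Nat.mod_add_div]
      exact hi
    obtain ⟨j, hjn, hj⟩ := (Nat.dvd_prime_pow hp.out).1 (hdvd P hFP)
    have hTi : ∀ i ≤ P, ∀ (z : Cn), ∀ x ∈ W,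
        L (z : S) ((T ^ i) x) = (χ ⟨(σ ^ (P - i)) z, hCσ _ z z.2⟩ : k) • (T ^ i) x := by
      intro i hi z x hx
      have h1 : L (z : S) * T ^ i = T ^ i * L ((σ ^ (P - i)) z) := by
        rw [twist_pow hTL, ← MulAut.mul_apply, ← pow_add, Nat.add_sub_cancel' hi, hσ, MulAut.one_apply]
      have h2 := LinearMap.congr_fun h1 x
      rw [Module.End.mul_apply, Module.End.mul_apply,
        hx ⟨(σ ^ (P - i)) z, hCσ _ z z.2⟩, map_smul] at h2
      exact h2
    have hindep : ∀ x ∈ W, ∑ i ∈ Finset.range i₀, (T ^ i) x = 0 → x = 0 := by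
      intro x hx h0
      have h1 : ∑ i ∈ Finset.range i₀, ∑ z : Cn, ((χ z)⁻¹ : kˣ).val • L (z : S) ((T ^ i) x) = 0 := by
        rw [Finset.sum_comm]
        refine Finset.sum_eq_zero fun z _ => ?_
        rw [← Finset.smul_sum, ← map_sum, h0, map_zero, smul_zero]
      have hle : i₀ ≤ P := Nat.le_of_dvd hP0 (hdvd P hFP)
      rw [Finset.sum_eq_single_of_mem 0 (Finset.mem_range.2 hi₀)] at h1
      · have h2 : ∀ z : Cn, ((χ z)⁻¹ : kˣ).val • L (z : S) ((T ^ 0) x) = x := fun z => by
          rw [pow_zero, Module.End.one_apply, hx z, smul_smul, Units.inv_mul, one_smul]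
        simp only [h2, Finset.sum_const, Finset.card_univ, ← Nat.cast_smul_eq_nsmul k] at h1
        rw [← Nat.card_eq_fintype_card] at h1
        exact (smul_eq_zero.1 h1).resolve_left (hSk Cn (hS.to_subgroup Cn))
      · intro i hi hi0
        rw [Finset.mem_range] at hi
        let g : Cn →* kˣ := MonoidHom.mk' (fun z => (χ z)⁻¹ * χ ⟨(σ ^ (P - i)) z, hCσ _ z z.2⟩) fun a b => by
          rw [show (⟨(σ ^ (P - i)) (a * b : Cn), hCσ _ _ (a * b).2⟩ : Cn) =
            ⟨(σ ^ (P - i)) a, hCσ _ a a.2⟩ * ⟨(σ ^ (P - i)) b, hCσ _ b b.2⟩ from Subtype.ext (map_mul _ _ _),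
            map_mul, map_mul, mul_inv, mul_mul_mul_comm]
        have hg : g ≠ 1 := fun h => by
          have h3 : Fx (P - i) := fun z => by
            have h4 : (χ z)⁻¹ * χ ⟨(σ ^ (P - i)) z, hCσ _ z z.2⟩ = 1 := DFunLike.congr_fun h z
            exact (inv_mul_eq_one.1 h4).symm
          have h5 : i₀ ∣ i := by
            have h6 := hdvd P hFP
            rw [show P = i + (P - i) by omega] at h6
            exact (Nat.dvd_add_left (hdvd _ h3)).1 h6
          exact absurd (Nat.le_of_dvd (Nat.pos_of_ne_zero hi0) h5) (by omega)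
        have h2 : ∀ z : Cn, ((χ z)⁻¹ : kˣ).val • L (z : S) ((T ^ i) x) = (g z : k) • (T ^ i) x := fun z => by
          rw [hTi i (by omega) z x hx, smul_smul, ← Units.val_mul]
          rfl
        simp only [h2, ← Finset.sum_smul, sum_char_eq_zero hg, zero_smul]
    have hsum : ∀ x ∈ W, x ≠ 0 → ((T - 1) ^ (p ^ j - 1)) x ≠ 0 := by
      intro x hx hx0 h
      rw [sub_one_pow_sub_one, LinearMap.sum_apply, ← hj] at h
      exact hx0 (hindep x hx h)
    rcases hjn.eq_or_lt with rfl | hjlt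
    · refine Or.inl ?_
      by_contra hlt
      refine hsum w₀ hχw₀ hw₀ ?_
      rw [← Nat.sub_add_cancel (show r ≤ p ^ j - 1 by omega), pow_add, hr, mul_zero, LinearMap.zero_apply]
    -- the subspace of the weight
    have hWne : W ≠ ⊥ := W.ne_bot_iff.2 ⟨w₀, hχw₀, hw₀⟩
    have hle : i₀ ≤ P := Nat.le_of_dvd hP0 (hdvd P hFP)
    have hWT' : ∀ x ∈ W, (T ^ i₀) x ∈ W := by
      intro x hx z
      have h1 : Fx (P - i₀) := (hFadd i₀ (P - i₀) hFi₀).1 (by rwa [Nat.add_sub_cancel' hle])
      rw [hTi i₀ hle z x hx, h1 z]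
    have hj0 : j ≠ 0 := by
      intro hj0
      rw [hj0, pow_zero] at hj
      have h2 : W = ⊤ := by
        refine (hsimp W ?_ fun s => ?_).resolve_left hWne
        · rintro _ ⟨x, hx, rfl⟩
          have := hWT' x hx
          rwa [hj, pow_one] at this
        · rintro _ ⟨x, hx, rfl⟩
          exact hWL s x hx
      refine hscal fun z hz => ⟨χ ⟨z, hz⟩, LinearMap.ext fun x => ?_⟩
      have h3 : x ∈ W := h2 ▸ Submodule.mem_top
      exact h3 ⟨z, hz⟩
    set σ' := σ ^ i₀ with hσ'
    set T' := (T ^ i₀).restrict hWT' with hT'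
    set L' := restrictRep L W hWL with hL'
    have hTTW : ∀ (i : ℕ) (x : W), (((T' ^ i) x : W) : V) = (T ^ (i₀ * i)) x := fun i x => by
      rw [hT', restrict_pow_coe, pow_mul]
    have hnj : i₀ * p ^ (n - j) = P := by rw [hj, ← pow_add, Nat.add_sub_cancel' hjn]
    haveI : Nontrivial W := Submodule.nontrivial_iff_ne_bot.2 hWne
    -- the nilpotency index on the subspace
    have hcoe : ∀ (m : ℕ) (x : W), (((T' - 1) ^ m) x : W).1 = ((T - 1) ^ (p ^ j * m)) x := by
      intro m
      induction m with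
      | zero => intro x; simp
      | succ m ih =>
        intro x
        rw [pow_succ', Module.End.mul_apply, Nat.mul_succ, add_comm, pow_add, Module.End.mul_apply,
          sub_one_pow_char_pow, ← ih, ← hj]
        rfl
    have hex1 : ∃ m, (T' - 1) ^ m = 0 := ⟨r, LinearMap.ext fun x => Subtype.ext (by
      have h1 : r ≤ p ^ j * r := Nat.le_mul_of_pos_left _ (pow_pos hp.out.pos j)
      rw [hcoe, ← Nat.sub_add_cancel h1, pow_add, hr, mul_zero]
      rfl)⟩
    set r₁ := Nat.find hex1 with hr₁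
    have hr₁0 : 0 < r₁ := by
      rw [hr₁, Nat.find_pos]
      exact fun h => one_ne_zero ((pow_zero (T' - 1)).symm.trans h)
    have hr₁r : p ^ j * r₁ ≤ r := by
      obtain ⟨x, hx⟩ : ∃ x : W, ((T' - 1) ^ (r₁ - 1)) x ≠ 0 := by
        by_contra h
        push Not at h
        exact Nat.find_min hex1 (show r₁ - 1 < r₁ by omega) (LinearMap.ext h)
      have h1 : ((T - 1) ^ (p ^ j - 1 + p ^ j * (r₁ - 1))) x.1 ≠ 0 := by
        rw [pow_add, Module.End.mul_apply, ← hcoe]
        exact hsum _ (((T' - 1) ^ (r₁ - 1)) x).2 fun h => hx (Subtype.ext h)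
      by_contra hlt
      refine h1 ?_
      have h2 : r ≤ p ^ j - 1 + p ^ j * (r₁ - 1) := by
        obtain ⟨c, hc⟩ : ∃ c, r₁ = c + 1 := ⟨r₁ - 1, by omega⟩
        rw [hc, Nat.mul_succ] at hlt
        rw [hc, Nat.add_sub_cancel]
        have := pow_pos hp.out.pos j
        omega
      rw [← Nat.sub_add_cancel h2, pow_add, hr, mul_zero, LinearMap.zero_apply]
    have hy' : σ' ^ (p ^ (n - j - 1)) = y := by
      rw [hσ', ← pow_mul, hj, ← pow_add, hy]
      congr 2
      omega
    have hIH : Conclusion p q (n - j) r₁ S := by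
      refine IH _ ?_ S W σ' (n - j) L' T' r₁ rfl (by omega) hS ?_ ?_ ?_ ?_ (Nat.find_spec hex1)
      · have := Submodule.finrank_le W
        omega
      · rw [hσ', ← pow_mul, hnj, hσ]
      · refine LinearMap.ext fun x => Subtype.ext ?_
        rw [hTTW, hnj, hT]
        rfl
      · exact fun s => LinearMap.ext fun x => Subtype.ext (LinearMap.congr_fun (twist_pow hTL i₀ s) x.1)
      · rw [hy']
        by_contra hall
        push Not at hall
        let F : Submodule k V :=
          { carrier := {v | ∀ s, L (y s) v = L s v}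
            add_mem' := fun {a b} ha hb s => by rw [map_add, map_add, ha s, hb s]
            zero_mem' := fun s => by rw [map_zero, map_zero]
            smul_mem' := fun c v hv s => by rw [map_smul, map_smul, hv s] }
        have hWF : W ≤ F := fun x hx s => congrArg Subtype.val (LinearMap.congr_fun (hall s) ⟨x, hx⟩)
        have hFT : F.map T ≤ F := by
          rintro _ ⟨v, hv, rfl⟩ s
          obtain ⟨t, rfl⟩ : ∃ t, σ t = s := ⟨_, hσinv s⟩
          rw [show y (σ t) = σ (y t) by simpa using (hyσ 1 t).symm, ← Module.End.mul_apply, ← hTL,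
            ← Module.End.mul_apply, ← hTL, Module.End.mul_apply, Module.End.mul_apply, hv t]
        have hFL : ∀ s, F.map (L s) ≤ F := by
          rintro t _ ⟨v, hv, rfl⟩ s
          calc L (y s) (L t v) = L (y s) (L (y t) v) := by rw [hv t]
            _ = L (y (s * t)) v := by rw [map_mul y, map_mul, Module.End.mul_apply]
            _ = L s (L t v) := by rw [hv (s * t), map_mul, Module.End.mul_apply]
        have hFtop : F = ⊤ := (hsimp F hFT hFL).resolve_left fun h => hWne (le_bot_iff.1 (h ▸ hWF))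
        refine hy1 (MulEquiv.ext fun s => hinj (LinearMap.ext fun v => ?_))
        have hv : v ∈ F := hFtop ▸ Submodule.mem_top
        exact hv s
    rcases hIH with h | ⟨n₀, m, h1, h2, h3, h4, h5, h6⟩
    · refine Or.inl ?_
      calc P = p ^ j * p ^ (n - j) := by rw [← hnj, hj]
        _ ≤ p ^ j * r₁ := Nat.mul_le_mul_left _ h
        _ ≤ r := hr₁r
    · refine Or.inr ⟨n₀, m, h1, by omega, h3, h4, h5, ?_⟩
      calc p ^ (n - n₀) * (p ^ n₀ - 1) = p ^ j * (p ^ (n - j - n₀) * (p ^ n₀ - 1)) := by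
            rw [← mul_assoc, ← pow_add]
            congr 2
            omega
        _ ≤ p ^ j * r₁ := Nat.mul_le_mul_left _ h6
        _ ≤ r := hr₁r
  -- (E) the centre acts by scalars
  have hyp : y ^ p = 1 := by
    rw [hy, ← pow_mul, ← pow_succ, Nat.sub_add_cancel hn, hσ]
  haveI : Nontrivial S := by
    by_contra h
    rw [not_nontrivial_iff_subsingleton] at h
    exact hy1 (MulEquiv.ext fun s => Subsingleton.elim _ _)
  have hCnfix : ∀ z ∈ Cn, σ z = z := by
    intro z hz
    obtain ⟨a, ha⟩ := hscal z hz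
    refine hinj ?_
    calc L (σ z) = L (σ z) * T * T ^ (P - 1) := by rw [mul_assoc, hTinv, mul_one]
      _ = L z := by rw [← hTL, ha, mul_smul_comm, mul_one, smul_mul_assoc, hTinv]
  have hCnfix' : ∀ (i : ℕ), ∀ z ∈ Cn, (σ ^ i) z = z := by
    intro i z hz
    induction i with
    | zero => simp
    | succ i ih => rw [pow_succ, MulAut.mul_apply, hCnfix z hz, ih]
  -- elements with `τ s = c s`, `c` fixed, are fixed
  have hcoprime : ∀ (τ : MulAut S) (b : ℕ) (s c : S), τ ^ (p ^ b) = 1 → τ s = c * s → τ c = c → τ s = s := by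
    intro τ b s c hτ hs hc
    have h1 : ∀ i : ℕ, (τ ^ i) s = c ^ i * s := by
      intro i
      induction i with
      | zero => simp
      | succ i ih => rw [pow_succ', MulAut.mul_apply, ih, map_mul, map_pow, hc, hs, ← mul_assoc, ← pow_succ]
    have h2 := h1 (p ^ b)
    rw [hτ, MulAut.one_apply, right_eq_mul] at h2
    obtain ⟨a, ha⟩ := hS c
    have h3 : orderOf c = 1 := Nat.eq_one_of_dvd_coprimes
      (Nat.Coprime.pow b a ((Nat.coprime_primes hp.out hq.out).2 hpq))
      (orderOf_dvd_of_pow_eq_one h2) (orderOf_dvd_of_pow_eq_one ha)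
    rw [hs, orderOf_eq_one_iff.1 h3, one_mul]
  -- `[S, y] = S`
  set K₀ := Subgroup.closure (Set.range fun s => y s * s⁻¹) with hK₀
  have hK₀top : K₀ = ⊤ := by
    by_contra hne
    have hinv : ∀ a ∈ K₀, σ a ∈ K₀ := by
      intro a ha
      have : K₀.map σ.toMonoidHom ≤ K₀ := by
        rw [hK₀, MonoidHom.map_closure, Subgroup.closure_le]
        rintro _ ⟨_, ⟨s, rfl⟩, rfl⟩
        refine Subgroup.subset_closure ⟨σ s, ?_⟩
        show y (σ s) * (σ s)⁻¹ = σ (y s * s⁻¹)
        rw [map_mul, map_inv, show y (σ s) = σ (y s) by simpa using (hyσ 1 s).symm]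
      exact this ⟨a, ha, rfl⟩
    refine hy1 (MulEquiv.ext fun s => ?_)
    exact hcoprime y 1 s (y s * s⁻¹) (by rwa [pow_one]) (by rw [inv_mul_cancel_right])
      (hfix K₀ hne hinv _ (Subgroup.subset_closure ⟨s, rfl⟩))
  -- the Frattini subgroup is central
  have hΦinv : ∀ a ∈ frattini S, σ a ∈ frattini S := by
    intro a ha
    exact (Subgroup.characteristic_iff_map_eq.mp frattini_characteristic σ).le ⟨a, ha, rfl⟩
  have hΦC : frattini S ≤ Cn := by
    intro f hf
    refine Subgroup.mem_center_iff.2 fun s => ?_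
    suffices h : K₀ ≤ Subgroup.centralizer {f} by
      exact Subgroup.mem_centralizer_singleton_iff.1 (h (hK₀top ▸ Subgroup.mem_top s))
    rw [hK₀, Subgroup.closure_le]
    rintro _ ⟨t, rfl⟩
    rw [SetLike.mem_coe, Subgroup.mem_centralizer_singleton_iff]
    have hn' : t⁻¹ * f * t⁻¹⁻¹ ∈ frattini S := (inferInstance : (frattini S).Normal).conj_mem f hf t⁻¹
    have h1 : y (t⁻¹ * f * t) = t⁻¹ * f * t := hfix _ CfsgLib.PGroup.frattini_ne_top hΦinv _ (by
      rwa [inv_inv] at hn')
    have h2 : y f = f := hfix _ CfsgLib.PGroup.frattini_ne_top hΦinv f hf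
    rw [map_mul, map_mul, map_inv, h2] at h1
    calc y t * t⁻¹ * f = y t * (t⁻¹ * f * t) * t⁻¹ := by group
      _ = y t * ((y t)⁻¹ * f * y t) * t⁻¹ := by rw [h1]
      _ = f * (y t * t⁻¹) := by group
  have hcomm : ∀ s t : S, ⁅s, t⁆ ∈ Cn := fun s t => hΦC (CfsgLib.PGroup.commutatorElement_mem_frattini hS s t)
  have hnc : Cn ≠ ⊤ := fun h => hy1 (MulEquiv.ext fun s => by
    rw [hy, MulAut.one_apply]
    exact hCnfix' _ s (h ▸ Subgroup.mem_top s))
  -- `C(y) = Z(S)`
  have hCy : ∀ s, y s = s → s ∈ Cn := by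
    intro s hs
    refine Subgroup.mem_center_iff.2 fun t => ?_
    suffices h : K₀ ≤ Subgroup.centralizer {s} by
      exact Subgroup.mem_centralizer_singleton_iff.1 (h (hK₀top ▸ Subgroup.mem_top t))
    rw [hK₀, Subgroup.closure_le]
    rintro _ ⟨t, rfl⟩
    rw [SetLike.mem_coe, Subgroup.mem_centralizer_singleton_iff]
    have h1 : y ⁅s, t⁻¹⁆ = ⁅s, t⁻¹⁆ := by rw [hy]; exact hCnfix' _ _ (hcomm s t⁻¹)
    rw [map_commutatorElement, hs, map_inv] at h1
    simp only [commutatorElement_def, inv_inv] at h1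
    have h3 : (y t)⁻¹ * s⁻¹ * y t = t⁻¹ * s⁻¹ * t := mul_left_cancel (a := s) (by
      simpa [mul_assoc] using h1)
    calc y t * t⁻¹ * s = y t * (t⁻¹ * s⁻¹ * t)⁻¹ * t⁻¹ := by group
      _ = y t * ((y t)⁻¹ * s⁻¹ * y t)⁻¹ * t⁻¹ := by rw [h3]
      _ = _ := by group
  have hreg : ∀ i, 0 < i → i < P → ∀ s : S, s⁻¹ * (σ ^ i) s ∈ Cn → s ∈ Cn := by
    intro i hi0 hiP
    let M : Subgroup S :=
      { carrier := {s | s⁻¹ * (σ ^ i) s ∈ Cn}
        one_mem' := by simp
        mul_mem' := fun {a b} (ha : a⁻¹ * (σ ^ i) a ∈ Cn) (hb : b⁻¹ * (σ ^ i) b ∈ Cn) => by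
          show (a * b)⁻¹ * (σ ^ i) (a * b) ∈ Cn
          rw [map_mul, show (a * b)⁻¹ * ((σ ^ i) a * (σ ^ i) b) = b⁻¹ * (a⁻¹ * (σ ^ i) a) * (σ ^ i) b by group,
            Subgroup.mem_center_iff.1 ha b⁻¹, mul_assoc]
          exact mul_mem ha hb
        inv_mem' := fun {a} (ha : a⁻¹ * (σ ^ i) a ∈ Cn) => by
          show a⁻¹⁻¹ * (σ ^ i) a⁻¹ ∈ Cn
          rw [map_inv, show a⁻¹⁻¹ * ((σ ^ i) a)⁻¹ = a * (a⁻¹ * (σ ^ i) a)⁻¹ * a⁻¹ by group,
            Subgroup.mem_center_iff.1 (inv_mem ha) a, mul_inv_cancel_right]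
          exact inv_mem ha }
    intro s hs
    by_cases hM : M = ⊤
    · exfalso
      have hall : σ ^ i = 1 := MulEquiv.ext fun t => by
        have ht : t⁻¹ * (σ ^ i) t ∈ Cn := (show t ∈ M from hM ▸ Subgroup.mem_top t)
        refine hcoprime (σ ^ i) n t (t⁻¹ * (σ ^ i) t) (by rw [← pow_mul, mul_comm, pow_mul, hσ, one_pow]) ?_
          (hCnfix' i _ ht)
        rw [← Subgroup.mem_center_iff.1 ht t, mul_inv_cancel_left]
      have hord : orderOf σ = P := by
        obtain ⟨c, hc, hord⟩ := (Nat.dvd_prime_pow hp.out).1 (orderOf_dvd_of_pow_eq_one hσ)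
        rcases hc.eq_or_lt with rfl | hlt
        · exact hord
        · refine absurd ?_ hy1
          rw [hy, ← orderOf_dvd_iff_pow_eq_one, hord]
          exact pow_dvd_pow p (by omega)
      exact absurd (Nat.le_of_dvd hi0 (hord ▸ orderOf_dvd_of_pow_eq_one hall)) (by omega)
    · refine hCy s (hfix M hM ?_ s hs)
      intro t (ht : t⁻¹ * (σ ^ i) t ∈ Cn)
      show (σ t)⁻¹ * (σ ^ i) (σ t) ∈ Cn
      rw [← MulAut.mul_apply, ← pow_succ, pow_succ', MulAut.mul_apply, ← map_inv, ← map_mul]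
      simpa using hCσ 1 _ ht
  have hsimpL := simple_of_twist (hSk S hS) L hinj hcomm hscal σ n hσ T hT hTL hsimp
  rcases critical (hSk S hS) L hinj hsimpL hcomm hnc σ n hσ T hT hTL hreg hr with h | ⟨d, hd, hdr, hd1, hcard⟩
  · exact Or.inl h
  obtain ⟨a, ha⟩ := IsPGroup.iff_card.1 (hS.to_quotient (Subgroup.center S))
  rw [hcard] at ha
  obtain ⟨m, -, hm⟩ := (Nat.dvd_prime_pow hq.out).1 (ha ▸ dvd_pow_self d two_ne_zero)
  have hm0 : 1 ≤ m := by
    rcases Nat.eq_zero_or_pos m with rfl | h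
    · rw [pow_zero] at hm
      omega
    · exact h
  refine Or.inr ⟨n, m, hn, le_rfl, hm0, by rw [hd, Nat.add_sub_cancel, hm], ?_, ?_⟩
  · by_contra h
    push Not at h
    exact hnc (eq_top_iff.2 fun s _ => Subgroup.mem_center_iff.2 fun t => h t s)
  · rw [Nat.sub_self, pow_zero, one_mul, hd, Nat.add_sub_cancel]
    exact hdr

end CfsgLib.HallHigmanB
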