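import Mathlib
import Cfsg.Agent.HallHigmanB.Main
import Cfsg.Agent.Coprime.Sylow
import Cfsg.Agent.Constrained.CyclicNormalSylow
import Cfsg.Agent.Eq.Def_Local

/-!
# Theorem B for `p`-solvable linear groups over any field of characteristic `p`
-/

set_option autoImplicit false

open Module Cfsg

namespace CfsgLib.HallHigmanB

universe u v w

/-- The endomorphism ring inside that of a space of the same dimension over the algebraic closure. -/
theorem exists_extendScalars (F : Type w) [Field F] (V : Type v) [AddCommGroup V] [Module F V]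
    [FiniteDimensional F V] :
    ∃ φ : Module.End F V →+*
      Module.End (AlgebraicClosure F) (Fin (finrank F V) → AlgebraicClosure F), Function.Injective φ := by
  refine ⟨(Matrix.toLinAlgEquiv' (R := AlgebraicClosure F) (n := Fin (finrank F V))).toRingEquiv.toRingHom.comp
    (((algebraMap F (AlgebraicClosure F)).mapMatrix).comp
      (LinearMap.toMatrixAlgEquiv (Module.finBasis F V)).toRingEquiv.toRingHom), ?_⟩
  intro a b hab
  apply (LinearMap.toMatrixAlgEquiv (Module.finBasis F V)).injective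
  have h1 := (Matrix.toLinAlgEquiv' (R := AlgebraicClosure F) (n := Fin (finrank F V))).injective hab
  ext i j
  exact (algebraMap F (AlgebraicClosure F)).injective (congrFun (congrFun h1 i) j)

/-- An element acting nontrivially on a normal subgroup of coprime order acts nontrivially on some
invariant Sylow subgroup of it, for a suitable prime. -/
theorem exists_sylow_moved {G : Type u} [Group G] [Finite G] (O : Subgroup G) [O.Normal] (x : G)
    (hcop : (Nat.card (Subgroup.zpowers x)).Coprime (Nat.card O)) (y : G)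
    (hy : y ∉ Subgroup.centralizer (O : Set G)) :
    ∃ q : ℕ, q.Prime ∧ q ∣ Nat.card O ∧ ∃ Q : Subgroup G, Q ≤ O ∧ IsPGroup q Q ∧
      x ∈ Subgroup.normalizer (Q : Set G) ∧ ∃ s ∈ Q, y * s * y⁻¹ ≠ s := by
  classical
  by_contra hcon
  push Not at hcon
  have hsolv : Group.IsSolvable (Subgroup.zpowers x) :=
    isSolvable_of_comm fun a b => Subtype.ext (by
      obtain ⟨i, hi⟩ := Subgroup.mem_zpowers_iff.1 a.2
      obtain ⟨j, hj⟩ := Subgroup.mem_zpowers_iff.1 b.2
      rw [Subgroup.coe_mul, Subgroup.coe_mul, ← hi, ← hj, ← zpow_add, ← zpow_add, add_comm])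
  have hnorm : Subgroup.zpowers x ≤ Subgroup.normalizer (O : Set G) := fun g _ => by
    rw [Subgroup.normalizer_eq_top_iff.2 inferInstance]
    exact Subgroup.mem_top g
  set C := O ⊓ Subgroup.centralizer ({y} : Set G) with hC
  have hle : ∀ q : ℕ, q.Prime → q ^ (Nat.card O).factorization q ∣ Nat.card C := by
    intro q hq
    haveI := Fact.mk hq
    by_cases hdvd : q ∣ Nat.card O
    · obtain ⟨P, hP⟩ := CfsgLib.Coprime.exists_invariant_sylow hnorm hcop (Or.inl hsolv) (p := q)
      rw [← P.card_eq_multiplicity, Nat.card_congr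
        ((P : Subgroup O).equivMapOfInjective O.subtype O.subtype_injective).toEquiv]
      refine Subgroup.card_dvd_of_le (le_inf (Subgroup.map_subtype_le _) fun s hs => ?_)
      rw [Subgroup.mem_centralizer_singleton_iff]
      have h := hcon q hq hdvd _ (Subgroup.map_subtype_le _)
        (P.2.map O.subtype) (hP (Subgroup.mem_zpowers x)) s hs
      calc s * y = y * s * y⁻¹ * y := by rw [h]
        _ = y * s := inv_mul_cancel_right _ _
    · rw [Nat.factorization_eq_zero_of_not_dvd hdvd, pow_zero]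
      exact one_dvd _
  have hdvd : Nat.card O ∣ Nat.card C := by
    rw [← Nat.factorization_le_iff_dvd Nat.card_pos.ne' Nat.card_pos.ne']
    intro q
    by_cases hq : q.Prime
    · exact (hq.pow_dvd_iff_le_factorization Nat.card_pos.ne').1 (hle q hq)
    · rw [Nat.factorization_eq_zero_of_not_prime _ hq]
      exact Nat.zero_le _
  have hCO : C = O := Subgroup.eq_of_le_of_card_ge inf_le_left (Nat.le_of_dvd Nat.card_pos hdvd)
  refine hy (Subgroup.mem_centralizer_iff.2 fun s hs => ?_)
  exact Subgroup.mem_centralizer_singleton_iff.1 ((hCO.symm ▸ hs : s ∈ C)).2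

/-- Theorem B for a `p`-solvable linear group without nontrivial normal `p`-subgroup. -/
theorem theorem_b {G : Type u} [Group G] [Finite G] {F : Type w} [Field F] {p : ℕ} [hp : Fact p.Prime]
    [CharP F p] {V : Type v} [AddCommGroup V] [Module F V] [FiniteDimensional F V]
    (ρ : G →* Module.End F V) (hρ : Function.Injective ρ) (hsol : IsPSolvable p G) (hOp : pCore p G = ⊥)
    (x : G) (n : ℕ) (hn : 1 ≤ n) (hx : orderOf x = p ^ n) (r : ℕ) (hr : (ρ x - 1) ^ r = 0) :
    p ^ n ≤ r ∨ ∃ n₀ q m : ℕ, 1 ≤ n₀ ∧ n₀ ≤ n ∧ q.Prime ∧ 1 ≤ m ∧ p ^ n₀ - 1 = q ^ m ∧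
      (∀ Q : Sylow q G, ¬ IsMulCommutative Q) ∧ p ^ (n - n₀) * (p ^ n₀ - 1) ≤ r := by
  classical
  set O := pPrimeCore p G with hO
  have hOnd : ¬ p ∣ Nat.card O := CfsgLib.Constrained.pPrimeCore_not_dvd
  haveI : O.Normal := Cfsg.pPrimeCore_normal p G
  set y := x ^ (p ^ (n - 1)) with hy
  have hyord : orderOf y = p := by
    rw [hy, orderOf_pow' x (pow_pos hp.out.pos _).ne', hx, Nat.gcd_eq_right (pow_dvd_pow p (by omega)),
      Nat.pow_div (by omega) hp.out.pos, show n - (n - 1) = 1 by omega, pow_one]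
  have hyC : y ∉ Subgroup.centralizer (O : Set G) := by
    intro h
    have h1 : y ∈ O := CfsgLib.Constrained.centralizer_pPrimeCore_le hsol hOp h
    exact hOnd (hyord ▸ Subgroup.orderOf_dvd_natCard O h1)
  have hcop : (Nat.card (Subgroup.zpowers x)).Coprime (Nat.card O) := by
    rw [Nat.card_zpowers, hx]
    exact Nat.Coprime.pow_left _ (hp.out.coprime_iff_not_dvd.2 hOnd)
  obtain ⟨q, hq, hqO, Q, -, hQ, hxQ, s₀, hs₀, hys₀⟩ := exists_sylow_moved O x hcop y hyC
  haveI := Fact.mk hq
  have hpq : p ≠ q := fun h => hOnd (h.symm ▸ hqO)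
  have hinv : ∀ s ∈ Q, MulAut.conj x s ∈ Q := fun s hs => (Subgroup.mem_normalizer_iff.1 hxQ s).1 hs
  set σ := restrictAut (MulAut.conj x) Q hinv with hσ
  have hσi : ∀ (i : ℕ) (s : Q), (((σ ^ i) s : Q) : G) = x ^ i * s * (x ^ i)⁻¹ := fun i s => by
    rw [hσ, restrictAut_pow_coe, ← map_pow, MulAut.conj_apply]
  obtain ⟨φ, hφ⟩ := exists_extendScalars F V
  haveI : CharP (AlgebraicClosure F) p := inferInstance
  let L : Q →* Module.End (AlgebraicClosure F) (Fin (finrank F V) → AlgebraicClosure F) :=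
    (φ.toMonoidHom.comp ρ).comp Q.subtype
  have hxP : x ^ (p ^ n) = 1 := hx ▸ pow_orderOf_eq_one x
  have hmain := hallHigmanB_aux (k := AlgebraicClosure F) (p := p) (q := q) hpq _ Q
    (Fin (finrank F V) → AlgebraicClosure F) σ n L (φ (ρ x)) r rfl hn hQ ?_ ?_ ?_ ?_ ?_
  · rcases hmain with h | ⟨n₀, m, h1, h2, h3, h4, ⟨a, b, hab⟩, h5⟩
    · exact Or.inl h
    · refine Or.inr ⟨n₀, q, m, h1, h2, hq, h3, h4, fun P hP => hab ?_, h5⟩
      obtain ⟨P₀, hP₀⟩ := hQ.exists_le_sylow
      let e := Sylow.equiv P₀ P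
      have hc := hP.is_comm.comm (e ⟨a, hP₀ a.2⟩) (e ⟨b, hP₀ b.2⟩)
      rw [← map_mul, ← map_mul] at hc
      have hc' := congrArg Subtype.val (e.injective hc)
      exact Subtype.ext hc'
  · ext s
    rw [hσi, hxP, one_mul, inv_one, mul_one]
    rfl
  · rw [← map_pow, ← map_pow, hxP, map_one, map_one]
  · intro s
    show φ (ρ x) * φ (ρ (s : G)) = φ (ρ ((σ s : Q) : G)) * φ (ρ x)
    have h1 := hσi 1 s
    rw [pow_one, pow_one] at h1
    rw [← map_mul, ← map_mul, ← map_mul, ← map_mul, h1, inv_mul_cancel_right]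
  · refine ⟨⟨s₀, hs₀⟩, fun h => hys₀ ?_⟩
    have h1 : ((σ ^ (p ^ (n - 1))) ⟨s₀, hs₀⟩ : Q) = ⟨s₀, hs₀⟩ :=
      Subtype.ext (hρ (hφ h))
    have h2 := congrArg Subtype.val h1
    rwa [hσi] at h2
  · rw [← map_one φ, ← map_sub, ← map_pow, hr, map_zero]

end CfsgLib.HallHigmanB
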